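import Mathlib.Algebra.Category.Ring.Basic
import Mathlib.Algebra.Colimit.Ring
import Mathlib.CategoryTheory.Functor.OfSequence
import Mathlib.RingTheory.AdjoinRoot
import Mathlib.Algebra.MvPolynomial.CommRing
import Mathlib.Algebra.Polynomial.Div

/-! Every ring embeds into one over which all monic polynomials split. -/

set_option autoImplicit false
universe u

namespace Groth.Agent.AbsIntClosure

open Polynomial CategoryTheory

variable (A : Type u) [CommRing A]

/-- monic polynomials of positive degree -/
abbrev Idx : Type u := {f : A[X] // f.Monic ∧ f.natDegree ≠ 0}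

/-- the relation ideal -/
noncomputable def rel : Ideal (MvPolynomial (Idx A) A) :=
  Ideal.span (Set.range fun f : Idx A => aeval (MvPolynomial.X f : MvPolynomial (Idx A) A) f.1)

/-- adjoin a root of each monic polynomial -/
def Step : Type u := MvPolynomial (Idx A) A ⧸ rel A

noncomputable instance : CommRing (Step A) := inferInstanceAs (CommRing (MvPolynomial (Idx A) A ⧸ rel A))

/-- the structure map -/
noncomputable def stepMap : A →+* Step A := (Ideal.Quotient.mk (rel A)).comp MvPolynomial.C

theorem exists_roots : ∀ (l : List (Idx A)),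
    ∃ (T : Type u) (_ : CommRing T) (φ : A →+* T), Function.Injective φ ∧
      ∀ f ∈ l, ∃ c : T, eval₂ φ c f.1 = 0
  | [] => ⟨A, inferInstance, RingHom.id A, fun _ _ h => h, by simp⟩
  | f :: l => by
    obtain ⟨T, _, φ, hφ, hl⟩ := exists_roots l
    rcases subsingleton_or_nontrivial T with hC | hC
    · exact ⟨T, inferInstance, φ, hφ, fun g _ => ⟨0, Subsingleton.elim _ _⟩⟩
    let g : T[X] := f.1.map φ
    have hg : g.Monic := f.2.1.map φ
    refine ⟨AdjoinRoot g, inferInstance, (AdjoinRoot.of g).comp φ, ?_, fun k hk => ?_⟩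
    · rw [RingHom.coe_comp]
      refine Function.Injective.comp ?_ hφ
      rw [injective_iff_map_eq_zero]
      intro c hc
      have hdvd : g ∣ C c := AdjoinRoot.mk_eq_zero.1 hc
      by_contra hc0
      have := hg.natDegree_map (RingHom.id T)
      refine hg.not_dvd_of_natDegree_lt (C_ne_zero.2 hc0) ?_ hdvd
      rw [natDegree_C, f.2.1.natDegree_map φ]
      exact Nat.pos_of_ne_zero f.2.2
    · rcases List.mem_cons.1 hk with rfl | hk
      · refine ⟨AdjoinRoot.root g, ?_⟩
        rw [← eval₂_map]
        exact AdjoinRoot.eval₂_root g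
      · obtain ⟨c, hc⟩ := hl k hk
        exact ⟨AdjoinRoot.of g c, by rw [← hom_eval₂, hc, map_zero]⟩

theorem stepMap_injective : Function.Injective (stepMap A) := by
  classical
  rw [injective_iff_map_eq_zero]
  intro a ha
  have hmem : (MvPolynomial.C a : MvPolynomial (Idx A) A) ∈ rel A := Ideal.Quotient.eq_zero_iff_mem.1 ha
  obtain ⟨c, hc⟩ := Finsupp.mem_span_range_iff_exists_finsupp.1 hmem
  obtain ⟨C, _, φ, hφ, hroot⟩ := exists_roots A c.support.toList
  let r : Idx A → C := fun f => if h : f ∈ c.support then (hroot f (Finset.mem_toList.2 h)).choose else 0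
  let ev : MvPolynomial (Idx A) A →+* C := MvPolynomial.eval₂Hom φ r
  have h0 := congrArg ev hc
  rw [map_finsuppSum, MvPolynomial.eval₂Hom_C] at h0
  refine hφ ((h0.symm.trans (Finset.sum_eq_zero fun f hf => ?_)).trans (map_zero φ).symm)
  simp only [smul_eq_mul, map_mul]
  rw [show ev (aeval (MvPolynomial.X f : MvPolynomial (Idx A) A) f.1) = 0 from ?_, mul_zero]
  rw [aeval_def, hom_eval₂, show ev.comp (algebraMap A (MvPolynomial (Idx A) A)) = φ from
    RingHom.ext fun x => by simp [ev], show ev (MvPolynomial.X f) = r f by simp [ev]]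
  simp only [r, dif_pos hf]
  exact (hroot f (Finset.mem_toList.2 hf)).choose_spec

theorem exists_root_step (f : Idx A) : ∃ c : Step A, eval₂ (stepMap A) c f.1 = 0 := by
  refine ⟨Ideal.Quotient.mk (rel A) (MvPolynomial.X f), ?_⟩
  show eval₂ ((Ideal.Quotient.mk (rel A)).comp MvPolynomial.C) _ f.1 = (0 : MvPolynomial (Idx A) A ⧸ rel A)
  rw [← hom_eval₂, Ideal.Quotient.eq_zero_iff_mem]
  exact Ideal.subset_span ⟨f, rfl⟩

/-- the tower -/
noncomputable def tower : ℕ → CommRingCat.{u}
  | 0 => CommRingCat.of A
  | n + 1 => CommRingCat.of (Step (tower n))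

/-- the tower as a functor -/
noncomputable def towerFunctor : ℕ ⥤ CommRingCat.{u} :=
  Functor.ofSequence (X := tower A) fun n => CommRingCat.ofHom (stepMap (tower A n))

/-- transition maps -/
noncomputable def trans (i j : ℕ) (h : i ≤ j) : tower A i →+* tower A j := ((towerFunctor A).map (homOfLE h)).hom

theorem trans_self (i : ℕ) (h : i ≤ i) : trans A i i h = RingHom.id _ := by
  have : (homOfLE h : i ⟶ i) = 𝟙 i := Subsingleton.elim _ _
  show ((towerFunctor A).map (homOfLE h)).hom = _
  rw [this, (towerFunctor A).map_id]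
  rfl

theorem trans_trans (i j k : ℕ) (hij : i ≤ j) (hjk : j ≤ k) :
    (trans A j k hjk).comp (trans A i j hij) = trans A i k (hij.trans hjk) := by
  show (((towerFunctor A).map (homOfLE hjk)).hom).comp ((towerFunctor A).map (homOfLE hij)).hom =
    ((towerFunctor A).map (homOfLE (hij.trans hjk))).hom
  rw [← homOfLE_comp hij hjk, (towerFunctor A).map_comp]
  rfl

instance : DirectedSystem (fun i => (tower A i : Type u)) (fun i j h => trans A i j h) where
  map_self i x := RingHom.congr_fun (trans_self A i le_rfl) x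
  map_map k j i hij hjk x := RingHom.congr_fun (trans_trans A i j k hij hjk) x

theorem trans_succ (n : ℕ) : trans A n (n + 1) n.le_succ = stepMap (tower A n) := by
  show ((towerFunctor A).map (homOfLE (Nat.le_add_right n 1))).hom = _
  exact congrArg CommRingCat.Hom.hom (Functor.ofSequence_map_homOfLE_succ (X := tower A) (fun n => CommRingCat.ofHom (stepMap (tower A n))) n)

theorem trans_injective : ∀ (j : ℕ) (i : ℕ) (h : i ≤ j), Function.Injective (trans A i j h)
  | 0, i, h => by
    obtain rfl := Nat.le_zero.1 h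
    intro x y hxy
    rwa [trans_self, RingHom.id_apply, RingHom.id_apply] at hxy
  | j + 1, i, h => by
    rcases eq_or_lt_of_le h with rfl | hlt
    · intro x y hxy
      rwa [trans_self, RingHom.id_apply, RingHom.id_apply] at hxy
    · intro x y hxy
      refine trans_injective j i (Nat.lt_succ_iff.1 hlt) (stepMap_injective (tower A j) ?_)
      rw [← trans_succ]
      exact ((RingHom.congr_fun (trans_trans A i j (j + 1) (Nat.lt_succ_iff.1 hlt) j.le_succ) x).trans hxy).trans
        (RingHom.congr_fun (trans_trans A i j (j + 1) (Nat.lt_succ_iff.1 hlt) j.le_succ) y).symm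

/-- the closure -/
abbrev Closure : Type u := Ring.DirectLimit (fun i => (tower A i : Type u)) fun i j h => trans A i j h

theorem exists_closure :
    ∃ (B : Type u) (_ : CommRing B) (φ : A →+* B), Function.Injective φ ∧
      ∀ f : B[X], f.Monic → f.natDegree ≠ 0 → ∃ b : B, f.IsRoot b := by
  refine ⟨Closure A, inferInstance, (Ring.DirectLimit.of (fun i => (tower A i : Type u)) (fun i j h => trans A i j h) 0 : tower A 0 →+* Closure A), ?_, ?_⟩
  · rw [injective_iff_map_eq_zero]
    intro a ha
    obtain ⟨j, hj, h0⟩ := Ring.DirectLimit.of.zero_exact ha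
    exact (injective_iff_map_eq_zero _).1 (trans_injective A j 0 hj) a h0
  · intro f hf hd
    obtain ⟨i, p, hp⟩ := Ring.DirectLimit.Polynomial.exists_of f
    let d := f.natDegree
    let q : (tower A i)[X] := X ^ d + ∑ k ∈ Finset.range d, C (p.coeff k) * X ^ k
    rcases subsingleton_or_nontrivial (Closure A) with hs | hs
    · exact ⟨0, Subsingleton.elim _ _⟩
    haveI : Nontrivial (tower A i) := (Ring.DirectLimit.of (fun i => (tower A i : Type u)) (fun i j h => trans A i j h) i).domain_nontrivial
    have hdeg : (∑ k ∈ Finset.range d, C (p.coeff k) * X ^ k).degree < (d : WithBot ℕ) :=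
      (degree_sum_le _ _).trans_lt ((Finset.sup_lt_iff (WithBot.bot_lt_coe d)).2 fun k hk =>
        (degree_C_mul_X_pow_le k _).trans_lt (WithBot.coe_lt_coe.2 (Finset.mem_range.1 hk)))
    have hqm : q.Monic := monic_X_pow_add hdeg
    have hqd : q.natDegree = d := by
      refine natDegree_eq_of_degree_eq_some ?_
      rw [degree_add_eq_left_of_degree_lt (by rwa [degree_X_pow]), degree_X_pow]
    have hqmap : q.map (Ring.DirectLimit.of _ _ i) = f := by
      conv_rhs => rw [hf.as_sum]
      simp only [q, Polynomial.map_add, Polynomial.map_pow, Polynomial.map_X, Polynomial.map_sum, Polynomial.map_mul,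
        Polynomial.map_C]
      simp only [d, ← hp, coeff_map]
    obtain ⟨c, hc⟩ := exists_root_step (tower A i) ⟨q, hqm, by rw [hqd]; exact hd⟩
    refine ⟨Ring.DirectLimit.of (fun i => (tower A i : Type u)) (fun i j h => trans A i j h) (i + 1) c, ?_⟩
    rw [IsRoot, ← hqmap, eval_map]
    have hcomp : Ring.DirectLimit.of (fun i => (tower A i : Type u)) (fun i j h => trans A i j h) i =
        (Ring.DirectLimit.of (fun i => (tower A i : Type u)) (fun i j h => trans A i j h) (i + 1)).comp (stepMap (tower A i)) := by
      rw [← trans_succ]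
      exact RingHom.ext fun x => (Ring.DirectLimit.of_f (G := fun i => (tower A i : Type u)) (f := fun i j h => trans A i j h) i.le_succ x).symm
    rw [hcomp, ← hom_eval₂]
    exact (congrArg _ hc).trans (map_zero _)

theorem exists_split {B : Type u} [CommRing B] (h : ∀ f : B[X], f.Monic → f.natDegree ≠ 0 → ∃ b : B, f.IsRoot b) :
    ∀ (n : ℕ) (f : B[X]), f.Monic → f.natDegree = n → ∃ s : Multiset B, f = (s.map fun b => X - C b).prod
  | 0, f, hf, hn => ⟨0, by simp [hf.natDegree_eq_zero.1 hn]⟩
  | n + 1, f, hf, hn => by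
    obtain ⟨b, hb⟩ := h f hf (by omega)
    obtain ⟨g, hg⟩ := dvd_iff_isRoot.2 hb
    rcases subsingleton_or_nontrivial B with hs | hs
    · exact ⟨0, Subsingleton.elim _ _⟩
    have hgm : g.Monic := (monic_X_sub_C b).of_mul_monic_left (hg ▸ hf)
    obtain ⟨s, hs'⟩ := exists_split h n g hgm (by
      have := (monic_X_sub_C b).natDegree_mul hgm
      rw [← hg, natDegree_X_sub_C] at this
      omega)
    exact ⟨b ::ₘ s, by rw [Multiset.map_cons, Multiset.prod_cons, ← hs', hg]⟩

end Groth.Agent.AbsIntClosure
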